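import Groth.Agent.Deform.OpenQF.Basic
import Groth.Agent.AlgSpVal.ValThrough
import Groth.Agent.FibDim.AffineSpaceFibre
import Groth.Agent.FibDim.BaseChange
import Groth.Agent.FibDim.Open
import Groth.Agent.UnivOpen.Unibranch
import Groth.Agent.UnivOpen.UnibranchAlg
import Groth.Agent.UnivOpen.Criterion
import Groth.Agent.QHomeo.OpenAt
import Groth.Agent.AlgSpPts.Sep
import Groth.Prelude.Def_EGA43

/-!
# Quasi-finite morphisms to affine space are universally open (EGA IV 14.4.1)
-/

set_option autoImplicit false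
set_option linter.style.haveILetI false
set_option linter.unusedSectionVars false

universe u

open CategoryTheory CategoryTheory.Limits AlgebraicGeometry

namespace Groth.Agent.Deform.OpenQF

noncomputable section

variable {X S : Scheme.{u}} (f : X ⟶ S) [LocallyOfFinitePresentation f] {n : ℕ}
  (u : X ⟶ 𝔸(ULift.{u} (Fin n); S)) [LocallyQuasiFinite u] (hu : u ≫ (𝔸(ULift.{u} (Fin n); S) ↘ S) = f)

include hu in
theorem lfp_of_toAffineSpace : LocallyOfFinitePresentation u := by
  haveI : LocallyOfFinitePresentation (u ≫ (𝔸(ULift.{u} (Fin n); S) ↘ S)) := by rw [hu]; infer_instance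
  exact AlgSpPts.locallyOfFinitePresentation_of_comp u (𝔸(ULift.{u} (Fin n); S) ↘ S)

/-- A point of a base change to a valuation ring lying above a generization in the fibre. -/
theorem exists_fibMax_above {z x : X} (hzx : z ⤳ x) (hfz : f z = f x) (hz : FibDim.FibMax f z)
    {A : Type u} [CommRing A] [IsLocalRing A] {XA : Scheme.{u}} {p : XA ⟶ X} {q : XA ⟶ Spec (CommRingCat.of A)}
    {τ : Spec (CommRingCat.of A) ⟶ S} (hXA : IsPullback p q f τ) (xA : XA) (hx : p xA = x)
    (hq : q xA = IsLocalRing.closedPoint A) :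
    ∃ zA, zA ⤳ xA ∧ p zA = z ∧ q zA = IsLocalRing.closedPoint A ∧ FibDim.FibMax q zA := by
  haveI : LocallyOfFiniteType q := MorphismProperty.of_isPullback hXA inferInstance
  let c : Spec (CommRingCat.of (IsLocalRing.ResidueField A)) ⟶ Spec (CommRingCat.of A) :=
    Spec.map (CommRingCat.ofHom (IsLocalRing.residue A))
  have hc : ∀ t, c t = IsLocalRing.closedPoint A := fun t => by
    rw [@Subsingleton.elim (Spec (CommRingCat.of (IsLocalRing.ResidueField A))) inferInstance t
      (IsLocalRing.closedPoint _)]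
    exact IsLocalRing.comap_closedPoint (IsLocalRing.residue A)
  obtain ⟨⟨s, φ⟩, hφ⟩ := (Scheme.SpecToEquivOfField (IsLocalRing.ResidueField A) S).symm.surjective (c ≫ τ)
  have hφ' : Spec.map φ ≫ S.fromSpecResidueField s = c ≫ τ := hφ
  have hs : s = f x := by
    have h1 : (c ≫ τ) (IsLocalRing.closedPoint _) = s := by
      rw [← hφ', Scheme.Hom.comp_apply]; exact Scheme.fromSpecResidueField_apply _ _
    rw [← h1, Scheme.Hom.comp_apply, hc, ← hq, ← hx, ← Scheme.Hom.comp_apply, ← hXA.w, Scheme.Hom.comp_apply]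
  subst hs
  let Xk := pullback (f.fiberToSpecResidueField (f x)) (Spec.map φ)
  have hsq : IsPullback (pullback.fst (f.fiberToSpecResidueField (f x)) (Spec.map φ) ≫ f.fiberι (f x))
      (pullback.snd (f.fiberToSpecResidueField (f x)) (Spec.map φ)) f (c ≫ τ) := by
    rw [← hφ']
    exact IsPullback.paste_horiz (IsPullback.of_hasPullback _ _) (IsPullback.of_hasPullback f _)
  let m : Xk ⟶ XA := hXA.lift (pullback.fst _ _ ≫ f.fiberι (f x)) (pullback.snd _ _ ≫ c)
    (by rw [hsq.w, Category.assoc])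
  have hm : IsPullback m (pullback.snd (f.fiberToSpecResidueField (f x)) (Spec.map φ)) q c := by
    refine IsPullback.of_right ?_ (hXA.lift_snd _ _ _) hXA
    rw [hXA.lift_fst]; exact hsq
  obtain ⟨w, hw, -⟩ := Scheme.Pullback.exists_preimage_pullback (f := q) (g := c) xA (IsLocalRing.closedPoint _)
    (by rw [hq, hc])
  let xk : Xk := hm.isoPullback.inv w
  have hxk : m xk = xA := by rw [← Scheme.Hom.comp_apply, hm.isoPullback_inv_fst, hw]
  have hxk' : f.fiberι (f x) (pullback.fst (f.fiberToSpecResidueField (f x)) (Spec.map φ) xk) = x := by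
    refine Eq.trans ?_ ((congrArg p hxk).trans hx)
    rw [← Scheme.Hom.comp_apply, ← Scheme.Hom.comp_apply m, hXA.lift_fst]
  obtain ⟨zs, hzs⟩ : z ∈ Set.range (f.fiberι (f x)) := by rw [Scheme.Hom.range_fiberι]; exact hfz
  have hsp : zs ⤳ pullback.fst (f.fiberToSpecResidueField (f x)) (Spec.map φ) xk :=
    (FibDim.fiberι_specializes_iff f _ _).mp (by rw [hzs, hxk']; exact hzx)
  haveI : Flat (Spec.map φ) := (HasRingHomProperty.Spec_iff (P := @Flat)).mpr (by
    letI := φ.hom.toAlgebra
    exact RingHom.flat_algebraMap_iff.mpr inferInstance)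
  haveI : Flat (pullback.fst (f.fiberToSpecResidueField (f x)) (Spec.map φ)) := inferInstance
  obtain ⟨zk, hzk, hzk'⟩ := Flat.generalizingMap (pullback.fst (f.fiberToSpecResidueField (f x)) (Spec.map φ)) hsp
  have hqm : q (m zk) = IsLocalRing.closedPoint A := by
    rw [← Scheme.Hom.comp_apply, hm.w, Scheme.Hom.comp_apply, hc]
  have hpm : p (m zk) = z := by
    rw [← Scheme.Hom.comp_apply, hXA.lift_fst, Scheme.Hom.comp_apply, hzk', hzs]
  obtain ⟨zA, hzA, hqzA, hmax, -⟩ := FibDim.exists_fibMax_generization q (m zk)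
  refine ⟨zA, hzA.trans (hxk ▸ hzk.map m.continuous), ?_, hqzA.trans hqm, hmax⟩
  refine hz (p zA) (hpm ▸ hzA.map p.continuous) ?_
  rw [← hpm, ← Scheme.Hom.comp_apply, hXA.w, Scheme.Hom.comp_apply, hqzA, ← Scheme.Hom.comp_apply,
    ← hXA.w, Scheme.Hom.comp_apply]

include hu in
/-- EGA IV 14.4.1, pointwise. -/
theorem isUnivOpenAt (x z : X) (hzx : z ⤳ x) (hfz : f z = f x) (hz : FibDim.FibMax f z)
    (hrd : FibDim.rd f z = n) (hopen : EGA43.IsUnivOpenAt f z) : EGA43.IsUnivOpenAt u x := by
  haveI := lfp_of_toAffineSpace f u hu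
  intro Y' g x'' hx''
  refine UnivOpen.isOpenAt_of_lifts_fp (pullback.snd u g) x'' fun y₁ hy₁ => ?_
  let K := Y'.residueField y₁
  obtain ⟨A, i, hi, hiK⟩ := AlgSpVal.exists_valuationRing_through (K := K) (Y'.fromSpecResidueField y₁)
    (pullback.snd u g x'') (by rw [Scheme.fromSpecResidueField_apply]; exact hy₁)
  let π := (𝔸(ULift.{u} (Fin n); S) ↘ S)
  let τ : Spec (CommRingCat.of A) ⟶ S := i ≫ g ≫ π
  let PA := 𝔸(ULift.{u} (Fin n); Spec (CommRingCat.of A))
  let πA : PA ⟶ Spec (CommRingCat.of A) := PA ↘ Spec (CommRingCat.of A)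
  let mA : PA ⟶ 𝔸(ULift.{u} (Fin n); S) := AffineSpace.map (ULift.{u} (Fin n)) τ
  have hPA : IsPullback mA πA π τ := AffineSpace.isPullback_map τ
  let σ : Spec (CommRingCat.of A) ⟶ PA := hPA.lift (i ≫ g) (𝟙 _) (by simp [τ, π])
  have hσm : σ ≫ mA = i ≫ g := hPA.lift_fst _ _ _
  have hσπ : σ ≫ πA = 𝟙 _ := hPA.lift_snd _ _ _
  let XA := pullback u mA
  let pu : XA ⟶ X := pullback.fst u mA
  let uA : XA ⟶ PA := pullback.snd u mA
  let fA : XA ⟶ Spec (CommRingCat.of A) := uA ≫ πA
  have hXA : IsPullback pu fA f τ := by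
    rw [← hu]
    exact IsPullback.paste_vert (IsPullback.of_hasPullback u mA) hPA
  let k : pullback uA σ ⟶ pullback u g := pullback.lift (pullback.fst _ _ ≫ pu) (pullback.snd _ _ ≫ i) (by
    rw [Category.assoc, Category.assoc, pullback.condition (f := u), pullback.condition_assoc (f := uA), hσm])
  have hk : IsPullback k (pullback.snd uA σ) (pullback.snd u g) i := by
    refine IsPullback.of_right ?_ (pullback.lift_snd _ _ _) (IsPullback.of_hasPullback u g)
    rw [pullback.lift_fst, ← hσm]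
    exact IsPullback.paste_horiz (IsPullback.of_hasPullback uA σ) (IsPullback.of_hasPullback u mA)
  obtain ⟨w₀, hw₀, hw₀'⟩ := Scheme.Pullback.exists_preimage_pullback (f := pullback.snd u g) (g := i) x''
    (IsLocalRing.closedPoint A) hi.symm
  let x₃ : ↥(pullback uA σ) := hk.isoPullback.inv w₀
  have hx₃ : k x₃ = x'' := by rw [← Scheme.Hom.comp_apply, hk.isoPullback_inv_fst, hw₀]
  have hx₃' : pullback.snd uA σ x₃ = IsLocalRing.closedPoint A := by
    rw [← Scheme.Hom.comp_apply, hk.isoPullback_inv_snd, hw₀']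
  let xA : XA := pullback.fst uA σ x₃
  have hpx : pu xA = x := by
    rw [← hx'', ← hx₃, ← Scheme.Hom.comp_apply, ← Scheme.Hom.comp_apply k, pullback.lift_fst]
  have huxA : uA xA = σ (IsLocalRing.closedPoint A) := by
    exact (congrArg (fun m : pullback uA σ ⟶ PA => m x₃) pullback.condition).trans (congrArg σ hx₃')
  have hπσ : ∀ t, πA (σ t) = t := fun t => by rw [← Scheme.Hom.comp_apply, hσπ]; rfl
  have hfxA : fA xA = IsLocalRing.closedPoint A := by rw [Scheme.Hom.comp_apply, huxA, hπσ]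
  obtain ⟨zA, hzA, hpz, hfzA, hmax⟩ := exists_fibMax_above f hzx hfz hz hXA xA hpx hfxA
  haveI : LocallyQuasiFinite uA := inferInstance
  haveI : LocallyOfFiniteType uA := inferInstance
  haveI : LocallyOfFiniteType πA := inferInstance
  haveI : LocallyOfFiniteType fA := inferInstance
  have hrdA : FibDim.rd fA zA = n := by
    rw [FibDim.rd_baseChange_eq_of_minimal hXA zA (fun w hw _ h2 => hmax w hw h2), hpz, hrd]
  have hp : FibDim.FibMax πA (uA zA) := fun p' h1 h2 => by
    by_contra hne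
    have h3 := FibDim.rd_lt πA h1 hne h2
    rw [FibDim.rd_comp, FibDim.rd_eq_zero_of_quasiFinite uA zA, Nat.add_zero] at hrdA
    rw [hrdA] at h3
    exact absurd (FibDim.rd_affineSpace_le n p') (not_le.mpr h3)
  let e := AffineSpace.SpecIso (ULift.{u} (Fin n)) (CommRingCat.of A)
  let R := CommRingCat.of (MvPolynomial (ULift.{u} (Fin n)) A)
  haveI : IsDomain R := inferInstanceAs (IsDomain (MvPolynomial (ULift.{u} (Fin n)) A))
  haveI : IsIntegrallyClosed R := UnivOpen.isIntegrallyClosed_mvPolynomial A (ULift.{u} (Fin n))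
  have heπ : ∀ t : ↥(Spec R), (πA (e.inv t) : PrimeSpectrum A) = PrimeSpectrum.comap MvPolynomial.C t := fun t => by
    rw [← Scheme.Hom.comp_apply, show e.inv ≫ πA = _ from AffineSpace.SpecIso_inv_over _]
    rfl
  have hcancel : ∀ t : PA, e.inv (e.hom t) = t := fun t => by rw [← Scheme.Hom.comp_apply, e.hom_inv_id]; rfl
  let mT : Ideal R := (IsLocalRing.maximalIdeal A).map MvPolynomial.C
  have hmT : mT.IsPrime := by
    have h : mT = RingHom.ker (MvPolynomial.map (σ := ULift.{u} (Fin n)) (IsLocalRing.residue A)) := by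
      rw [MvPolynomial.ker_map, IsLocalRing.ker_residue]
    rw [h]
    exact RingHom.ker_isPrime _
  let tT : ↥(Spec R) := ⟨mT, hmT⟩
  have htT : πA (e.inv tT) = IsLocalRing.closedPoint A := by
    rw [heπ]
    refine PrimeSpectrum.ext (Ideal.ext fun a => ?_)
    show MvPolynomial.C a ∈ (IsLocalRing.maximalIdeal A).map MvPolynomial.C ↔ _
    rw [MvPolynomial.mem_map_C_iff]
    refine ⟨fun h => by have h0 := h 0; rw [MvPolynomial.coeff_C, if_pos rfl] at h0; exact h0, fun h i => ?_⟩
    classical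
    rw [MvPolynomial.coeff_C]
    split_ifs
    · exact h
    · exact zero_mem _
  have hle : (e.hom (uA zA) : PrimeSpectrum R).asIdeal ≤ mT := by
    have h := (FibDim.fibMax_affineSpace n hp (z' := e.inv tT) (htT.trans (by
      rw [← hfzA, Scheme.Hom.comp_apply]))).map e.hom.continuous
    rw [← Scheme.Hom.comp_apply e.inv, e.inv_hom_id] at h
    exact (PrimeSpectrum.le_iff_specializes _ _).mpr h
  let η : ↥(Spec (CommRingCat.of A)) := Spec.map (CommRingCat.ofHom (algebraMap A K)) (IsLocalRing.closedPoint K)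
  have hη : (η : PrimeSpectrum A).asIdeal = ⊥ := by
    show (IsLocalRing.maximalIdeal K).comap (algebraMap A K) = ⊥
    rw [IsLocalRing.maximalIdeal_eq_bot, ← RingHom.ker_eq_comap_bot]
    exact (RingHom.injective_iff_ker_eq_bot _).mp (IsFractionRing.injective A K)
  have hiη : i η = y₁ := by
    rw [← Scheme.Hom.comp_apply, hiK, Scheme.fromSpecResidueField_apply]
  have hηle : ∀ t : ↥(Spec (CommRingCat.of A)), η ⤳ t := fun t =>
    (PrimeSpectrum.le_iff_specializes η t).mp (show (η : PrimeSpectrum A).asIdeal ≤ _ by rw [hη]; exact bot_le)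
  obtain ⟨w, hw, hfw⟩ := FibDim.exists_generization_of_isOpenAt fA
    (QHomeo.univOpenAt_openAt hopen hXA zA hpz) (hηle (fA zA))
  let q : XA ⟶ Spec R := uA ≫ e.hom
  have hgen : (q w : PrimeSpectrum R).asIdeal = ⊥ := by
    haveI := (q w : PrimeSpectrum R).isPrime
    refine eq_bot_of_le_map_maximalIdeal _ ?_ (le_trans ?_ hle)
    · have h2 : PrimeSpectrum.comap MvPolynomial.C (q w : PrimeSpectrum R) = (η : PrimeSpectrum A) := by
        rw [← heπ, Scheme.Hom.comp_apply, hcancel, ← Scheme.Hom.comp_apply]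
        exact hfw
      rw [← hη, ← h2]
      rfl
    · exact (PrimeSpectrum.le_iff_specializes _ _).mpr ((hw.map uA.continuous).map e.hom.continuous)
  obtain ⟨v, hv, hqv⟩ := exists_generization q (hw.trans hzA) hgen (y := e.hom (σ η))
    (by rw [Scheme.Hom.comp_apply, huxA]; exact ((hηle _).map σ.continuous).map e.hom.continuous)
  have huv : uA v = σ η := by
    have h := congrArg e.inv hqv
    rw [Scheme.Hom.comp_apply, hcancel, hcancel] at h
    exact h
  obtain ⟨w₃, hw₃, hw₃'⟩ := Scheme.Pullback.exists_preimage_pullback (f := uA) (g := σ) v η huv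
  haveI : IsClosedImmersion σ := by
    haveI : IsClosedImmersion (σ ≫ πA) := by rw [hσπ]; infer_instance
    exact IsClosedImmersion.of_comp σ πA
  have hsp : w₃ ⤳ x₃ := by
    rw [← (pullback.fst uA σ).isClosedEmbedding.isInducing.specializes_iff, hw₃]
    exact hv
  refine ⟨k w₃, hx₃ ▸ hsp.map k.continuous, ?_⟩
  rw [← Scheme.Hom.comp_apply, pullback.lift_snd, Scheme.Hom.comp_apply, hw₃', hiη]

end

end Groth.Agent.Deform.OpenQF
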