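import Mathlib.RingTheory.ZariskisMainTheorem
import Mathlib.RingTheory.IntegralClosure.GoingDown
import Mathlib.RingTheory.MvPolynomial.Basic
import Mathlib.AlgebraicGeometry.Morphisms.QuasiFinite

/-!
# Quasi-finite dominant morphisms to normal affine schemes lift generizations
-/

set_option autoImplicit false
set_option linter.style.haveILetI false

universe u

open CategoryTheory AlgebraicGeometry TensorProduct

namespace Groth.Agent.Deform.OpenQF

theorem exists_prime_le {R B : Type u} [CommRing R] [CommRing B] [IsDomain B] [IsIntegrallyClosed R]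
    [Algebra R B] [Algebra.FiniteType R B] [Algebra.QuasiFinite R B]
    (hinj : Function.Injective (algebraMap R B)) (P : Ideal B) [P.IsPrime] (q : Ideal R) [q.IsPrime]
    (hq : q ≤ P.under R) : ∃ Q : Ideal B, Q.IsPrime ∧ Q ≤ P ∧ Q.under R = q := by
  obtain ⟨r, hr, hbij⟩ := Algebra.ZariskisMainProperty.of_finiteType (R := R) P
  let C := integralClosure R B
  haveI : IsDomain R := hinj.isDomain
  haveI : FaithfulSMul R C := (faithfulSMul_iff_algebraMap_injective _ _).mpr fun a b h =>
    hinj (congrArg Subtype.val h)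
  haveI : Algebra.IsIntegral R C := inferInstance
  let P₀ : Ideal C := P.comap C.val.toRingHom
  haveI : P₀.IsPrime := Ideal.IsPrime.comap _
  haveI : P₀.LiesOver (P.under R) := ⟨by simp [P₀, Ideal.under_def, Ideal.comap_comap]⟩
  obtain ⟨Q₀, hQ₀P, hQ₀, hQ₀q⟩ := Ideal.exists_ideal_le_liesOver_of_le (p := q) (q := P.under R) P₀ hq
  have hrQ : r ∉ Q₀ := fun h => hr (hQ₀P h)
  let Cr := Localization.Away r
  have hdisj : Disjoint (Submonoid.powers r : Set C) Q₀ := by
    rw [Set.disjoint_left]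
    rintro _ ⟨m, rfl⟩ h
    exact hrQ (hQ₀.mem_of_pow_mem m h)
  let Qr : Ideal Cr := Q₀.map (algebraMap C Cr)
  haveI : Qr.IsPrime := IsLocalization.isPrime_of_isPrime_disjoint (.powers r) Cr Q₀ hQ₀ hdisj
  let e := RingEquiv.ofBijective _ hbij
  let ψ : B →+* Cr := e.symm.toRingHom.comp (algebraMap B (Localization.Away (C.val.toRingHom r)))
  have hψ : ∀ c : C, ψ c.1 = algebraMap C Cr c := fun c => by
    apply e.injective
    show e (e.symm _) = _
    rw [e.apply_symm_apply]
    simp only [e, RingEquiv.ofBijective_apply, Localization.awayMap, IsLocalization.Away.map]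
    symm
    exact IsLocalization.map_eq (M := Submonoid.powers r) _ c
  have hcomap : ∀ c : C, ψ c.1 ∈ Qr ↔ c ∈ Q₀ := fun c => by
    rw [hψ]
    exact Ideal.ext_iff.mp (IsLocalization.comap_map_of_isPrime_disjoint (.powers r) Cr hQ₀ hdisj) c
  refine ⟨Qr.comap ψ, Ideal.IsPrime.comap _, fun b hb => ?_, ?_⟩
  · obtain ⟨m, c, hc⟩ : ∃ (m : ℕ) (c : C), r.1 ^ m * b = c.1 := by
      obtain ⟨x, hx⟩ := hbij.2 (algebraMap B _ b)
      obtain ⟨⟨c, ⟨_, m, rfl⟩⟩, hcm⟩ := IsLocalization.surj (Submonoid.powers r) x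
      have := congrArg (Localization.awayMap C.val.toRingHom r) hcm
      rw [map_mul, hx] at this
      rw [Localization.awayMap, IsLocalization.Away.map, IsLocalization.map_eq, IsLocalization.map_eq,
        ← map_mul] at this
      obtain ⟨⟨_, l, rfl⟩, hl⟩ := (IsLocalization.eq_iff_exists (Submonoid.powers (C.val.toRingHom r)) _).mp this
      refine ⟨l + m, r ^ l * c, ?_⟩
      simp only [AlgHom.toRingHom_eq_coe, RingHom.coe_coe, Subalgebra.coe_val, map_pow] at hl
      rw [pow_add, Subalgebra.coe_mul, SubmonoidClass.coe_pow, ← hl]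
      ring
    have h1 : ψ c.1 ∈ Qr := by
      rw [← hc, map_mul]; exact Ideal.mul_mem_left _ _ hb
    have h2 : c.1 ∈ P := hQ₀P ((hcomap c).mp h1)
    rw [← hc] at h2
    exact ((‹P.IsPrime›).mem_or_mem h2).resolve_left fun h => hr ((‹P.IsPrime›).mem_of_pow_mem m h)
  · rw [hQ₀q.over]
    ext a
    exact hcomap (algebraMap R C a)

/-- A morphism locally of finite type and locally quasi-finite to a normal integral affine scheme lifts
generizations below any point that generizes to a point over the generic point. -/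
theorem exists_generization {X : Scheme.{u}} {R : CommRingCat.{u}} [IsDomain R] [IsIntegrallyClosed R]
    (q : X ⟶ Spec R) [LocallyOfFiniteType q] [LocallyQuasiFinite q] {w x : X} (hw : w ⤳ x)
    (hgen : (q w : PrimeSpectrum R).asIdeal = ⊥) {y : ↥(Spec R)} (hy : y ⤳ q x) : ∃ z, z ⤳ x ∧ q z = y := by
  obtain ⟨U, hU, hxU, -⟩ := exists_isAffineOpen_mem_and_subset (show x ∈ (⊤ : X.Opens) from trivial)
  obtain ⟨φ, hφ⟩ : ∃ φ : R ⟶ Γ(X, U), Spec.map φ = hU.fromSpec ≫ q := ⟨_, Spec.map_preimage _⟩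
  have hqf : φ.hom.QuasiFinite := by
    haveI : LocallyQuasiFinite (Spec.map φ) := by rw [hφ]; infer_instance
    exact (HasRingHomProperty.Spec_iff (P := @LocallyQuasiFinite)).mp this
  have hft : φ.hom.FiniteType := by
    haveI : LocallyOfFiniteType (Spec.map φ) := by rw [hφ]; infer_instance
    exact (HasRingHomProperty.Spec_iff (P := @LocallyOfFiniteType)).mp this
  algebraize [φ.hom]
  haveI : Algebra.QuasiFinite R Γ(X, U) := hqf
  haveI : Algebra.FiniteType R Γ(X, U) := hft
  obtain ⟨xP, hxP⟩ : x ∈ Set.range hU.fromSpec := by rw [hU.range_fromSpec]; exact hxU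
  obtain ⟨wP, hwP⟩ : w ∈ Set.range hU.fromSpec := by rw [hU.range_fromSpec]; exact hw.mem_open U.isOpen hxU
  have hle : (wP : PrimeSpectrum Γ(X, U)).asIdeal ≤ (xP : PrimeSpectrum Γ(X, U)).asIdeal :=
    (PrimeSpectrum.le_iff_specializes _ _).mpr
      (hU.fromSpec.isOpenEmbedding.isInducing.specializes_iff.mp (hwP ▸ hxP ▸ hw))
  have hq : ∀ zP, (q (hU.fromSpec zP) : PrimeSpectrum R) = PrimeSpectrum.comap φ.hom zP := fun zP => by
    rw [← Scheme.Hom.comp_apply, ← hφ]; rfl
  let Q0 := (wP : PrimeSpectrum Γ(X, U)).asIdeal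
  let mkQ := Ideal.Quotient.mk Q0
  haveI : Q0.IsPrime := (wP : PrimeSpectrum Γ(X, U)).isPrime
  let P : Ideal (Γ(X, U) ⧸ Q0) := (xP : PrimeSpectrum Γ(X, U)).asIdeal.map mkQ
  haveI : P.IsPrime := Ideal.map_isPrime_of_surjective Ideal.Quotient.mk_surjective (by
    rw [Ideal.mk_ker]; exact hle)
  have hPc : P.comap mkQ = (xP : PrimeSpectrum Γ(X, U)).asIdeal := by
    rw [Ideal.comap_map_of_surjective _ Ideal.Quotient.mk_surjective, ← RingHom.ker_eq_comap_bot, Ideal.mk_ker]
    exact sup_eq_left.mpr hle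
  have hinj : Function.Injective (algebraMap R (Γ(X, U) ⧸ Q0)) := by
    rw [RingHom.injective_iff_ker_eq_bot, ← hgen, ← hwP, hq]
    ext a
    exact Ideal.Quotient.eq_zero_iff_mem
  obtain ⟨Q, hQ, hQP, hQy⟩ := exists_prime_le hinj P (y : PrimeSpectrum R).asIdeal (by
    have h := (PrimeSpectrum.le_iff_specializes y (q x)).mpr hy
    rw [← hxP, hq] at h
    intro a ha
    have h' : φ.hom a ∈ (xP : PrimeSpectrum Γ(X, U)).asIdeal := h ha
    rw [← hPc] at h'
    exact h')
  let zP : PrimeSpectrum Γ(X, U) := ⟨Q.comap mkQ, Ideal.IsPrime.comap _⟩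
  refine ⟨hU.fromSpec zP, ?_, ?_⟩
  · rw [← hxP]
    refine Specializes.map ?_ hU.fromSpec.continuous
    exact (PrimeSpectrum.le_iff_specializes zP xP).mp (show Q.comap mkQ ≤ _ from hPc ▸ Ideal.comap_mono hQP)
  · rw [hq]
    exact PrimeSpectrum.ext hQy

/-- A prime of a polynomial ring over a valuation ring lying over zero and contained in the extension of
the maximal ideal is zero. -/
theorem eq_bot_of_le_map_maximalIdeal {A : Type u} [CommRing A] [IsDomain A] [ValuationRing A] {σ : Type u}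
    (Q : Ideal (MvPolynomial σ A)) [Q.IsPrime] (h0 : Q.comap MvPolynomial.C = ⊥)
    (hle : Q ≤ (IsLocalRing.maximalIdeal A).map MvPolynomial.C) : Q = ⊥ := by
  rw [eq_bot_iff]
  intro f hf
  by_contra hf0
  classical
  have hsupp : f.support.Nonempty := Finset.nonempty_iff_ne_empty.mpr fun h =>
    hf0 (by simpa using MvPolynomial.support_eq_empty.mp h)
  obtain ⟨i₀, hi₀, hdvd⟩ : ∃ i₀ ∈ f.support, ∀ i ∈ f.support, f.coeff i₀ ∣ f.coeff i := by
    have key : ∀ s : Finset (σ →₀ ℕ), s.Nonempty → ∃ i₀ ∈ s, ∀ i ∈ s, f.coeff i₀ ∣ f.coeff i := by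
      intro s hs
      induction hs using Finset.Nonempty.cons_induction with
      | singleton a => exact ⟨a, by simp, by simp⟩
      | cons a s ha hs ih =>
        obtain ⟨b, hb, hbd⟩ := ih
        rcases ValuationRing.dvd_total (f.coeff a) (f.coeff b) with h | h
        · refine ⟨a, Finset.mem_cons_self _ _, fun i hi => ?_⟩
          rcases Finset.mem_cons.mp hi with rfl | hi
          · exact dvd_rfl
          · exact h.trans (hbd i hi)
        · refine ⟨b, Finset.mem_cons_of_mem hb, fun i hi => ?_⟩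
          rcases Finset.mem_cons.mp hi with rfl | hi
          · exact h
          · exact hbd i hi
    exact key _ hsupp
  obtain ⟨f₁, hf₁⟩ : MvPolynomial.C (f.coeff i₀) ∣ f := (MvPolynomial.C_dvd_iff_dvd_coeff _ _).mpr fun i => by
    by_cases hi : i ∈ f.support
    · exact hdvd i hi
    · rw [MvPolynomial.notMem_support_iff.mp hi]; exact dvd_zero _
  have hc : f.coeff i₀ ≠ 0 := MvPolynomial.mem_support_iff.mp hi₀
  have hone : f₁.coeff i₀ = 1 := by
    have := congrArg (MvPolynomial.coeff i₀) hf₁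
    rw [MvPolynomial.coeff_C_mul] at this
    exact (mul_left_cancel₀ hc ((mul_one _).trans this)).symm
  have hf' : MvPolynomial.C (f.coeff i₀) * f₁ ∈ Q := hf₁ ▸ hf
  rcases (‹Q.IsPrime›).mem_or_mem hf' with h | h
  · have h' : f.coeff i₀ ∈ Q.comap MvPolynomial.C := h
    rw [h0] at h'
    exact hc h'
  · exact (IsLocalRing.maximalIdeal.isMaximal A).ne_top
      ((Ideal.eq_top_iff_one _).mpr (hone ▸ MvPolynomial.mem_map_C_iff.mp (hle h) i₀))

end Groth.Agent.Deform.OpenQF
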